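/-
`Sp_4` over a field of odd order as `2 × 2` matrices over `2 × 2` matrices.
-/
import Cfsg.Prelude.Def_Classical
import Cfsg.Agent.Forms.SympBridge
import Mathlib.Data.Matrix.Composition
import Mathlib.LinearAlgebra.Matrix.Determinant.Basic
import Mathlib.FieldTheory.Finite.Basic

set_option autoImplicit false
set_option linter.style.haveILetI false
set_option linter.unusedSectionVars false

namespace Cfsg.Agent.Fusion.SpFour

open Matrix Polynomial

variable {F : Type*} [Field F]

/-- `2 × 2` matrices. -/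
abbrev M2 (F : Type*) := Matrix (Fin 2) (Fin 2) F
/-- `4 × 4` matrices. -/
abbrev M4 (F : Type*) := Matrix (Fin 2 ⊕ Fin 2) (Fin 2 ⊕ Fin 2) F
/-- `2 × 2` matrices of blocks. -/
abbrev B2 (F : Type*) := Matrix (Fin 2) (Fin 2) (M2 F)

/-- plane and side. -/
def spIdx : Fin 2 × Fin 2 ≃ Fin 2 ⊕ Fin 2 where
  toFun x := if x.2 = 0 then Sum.inl x.1 else Sum.inr x.1
  invFun y := Sum.elim (fun k => (k, 0)) (fun k => (k, 1)) y
  left_inv := by decide
  right_inv := by decide

/-- The identification. -/
def θ : B2 F →+* M4 F where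
  toFun X := Matrix.reindex spIdx spIdx (Matrix.comp (Fin 2) (Fin 2) (Fin 2) (Fin 2) F X)
  map_one' := by
    ext i j
    rcases i with i | i <;> rcases j with j | j <;> fin_cases i <;> fin_cases j <;> simp [spIdx]
  map_mul' X Y := by
    show Matrix.reindex spIdx spIdx (Matrix.compRingEquiv (Fin 2) (Fin 2) F (X * Y)) = _
    rw [map_mul]
    simp only [Matrix.reindex_apply, Matrix.compRingEquiv_apply]
    rw [Matrix.submatrix_mul_equiv]
  map_zero' := by ext i j; rfl
  map_add' X Y := by ext i j; rfl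

theorem θ_injective : Function.Injective (θ : B2 F → M4 F) := fun _ _ h =>
  (Matrix.comp (Fin 2) (Fin 2) (Fin 2) (Fin 2) F).injective ((Matrix.reindex spIdx spIdx).injective h)

theorem θ_surjective : Function.Surjective (θ : B2 F → M4 F) := fun Y =>
  ⟨(Matrix.comp (Fin 2) (Fin 2) (Fin 2) (Fin 2) F).symm ((Matrix.reindex spIdx spIdx).symm Y), by
    show Matrix.reindex spIdx spIdx _ = Y
    rw [Equiv.apply_symm_apply, Equiv.apply_symm_apply]⟩

/-- The block transpose. -/
def bt (X : B2 F) : B2 F := fun k l => (X l k)ᵀ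

theorem θ_apply (X : B2 F) (i j : Fin 2 ⊕ Fin 2) :
    θ X i j = X (spIdx.symm i).1 (spIdx.symm j).1 (spIdx.symm i).2 (spIdx.symm j).2 := rfl

theorem θ_bt (X : B2 F) : θ (bt X) = (θ X)ᵀ := by ext i j; rfl

/-- The form in one plane. -/
def j0 : M2 F := !![0, -1; 1, 0]

/-- The form. -/
def JB : B2 F := !![j0, 0; 0, j0]

theorem θ_JB : θ (JB : B2 F) = Matrix.J (Fin 2) F := by
  ext i j
  rcases i with i | i <;> rcases j with j | j <;> fin_cases i <;> fin_cases j <;>
    simp [θ_apply, spIdx, JB, j0, Matrix.J]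

theorem mem_sp_iff {X : B2 F} :
    θ X ∈ Matrix.symplecticGroup (Fin 2) F ↔ X * JB * bt X = JB := by
  rw [SymplecticGroup.mem_iff, ← θ_bt, ← θ_JB, ← map_mul, ← map_mul]
  exact θ_injective.eq_iff

theorem mul_j0_transpose (a : M2 F) : a * j0 * aᵀ = a.det • j0 := by
  ext i j
  fin_cases i <;> fin_cases j <;>
    simp [j0, Matrix.det_fin_two, Matrix.mul_apply, Fin.sum_univ_two] <;> ring

theorem j0_smul_inj {c : F} (h : c • (j0 : M2 F) = j0) : c = 1 := by
  have := congrFun (congrFun h 1) 0
  simpa [j0] using this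

/-- Block diagonal. -/
def dg (a b : M2 F) : B2 F := !![a, 0; 0, b]

/-- The swap of the planes. -/
def sg : B2 F := !![0, 1; 1, 0]

theorem dg_mul (a b a' b' : M2 F) : dg a b * dg a' b' = dg (a * a') (b * b') := by
  ext k l : 2
  fin_cases k <;> fin_cases l <;> simp [dg, Matrix.mul_apply, Fin.sum_univ_two]

theorem dg_one : dg (1 : M2 F) 1 = 1 := by
  ext k l : 2
  fin_cases k <;> fin_cases l <;> simp [dg]

theorem sg_mul_dg (a b : M2 F) : sg * dg a b = dg b a * sg := by
  ext k l : 2
  fin_cases k <;> fin_cases l <;> simp [dg, sg, Matrix.mul_apply, Fin.sum_univ_two]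

theorem sg_mul_sg : (sg : B2 F) * sg = 1 := by
  ext k l : 2
  fin_cases k <;> fin_cases l <;> simp [sg, Matrix.mul_apply, Fin.sum_univ_two]

theorem sg_ne_dg (a b : M2 F) : (sg : B2 F) ≠ dg a b := fun h => by
  simpa [sg, dg] using congrFun (congrFun h 0) 1

theorem dg_mem {a b : M2 F} (ha : a.det = 1) (hb : b.det = 1) :
    θ (dg a b) ∈ Matrix.symplecticGroup (Fin 2) F := by
  rw [mem_sp_iff]
  ext k l : 2
  fin_cases k <;> fin_cases l <;>
    simp [dg, JB, bt, Matrix.mul_apply, Fin.sum_univ_two, mul_j0_transpose, ha, hb]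

theorem sg_mem : θ (sg : B2 F) ∈ Matrix.symplecticGroup (Fin 2) F := by
  rw [mem_sp_iff]
  ext k l : 2
  fin_cases k <;> fin_cases l <;> simp [sg, JB, bt, Matrix.mul_apply, Fin.sum_univ_two]

/-- `SL_2 × SL_2` in `Sp_4`. -/
def Φ : SpecialLinearGroup (Fin 2) F × SpecialLinearGroup (Fin 2) F →*
    Matrix.symplecticGroup (Fin 2) F where
  toFun x := ⟨θ (dg x.1.1 x.2.1), dg_mem x.1.2 x.2.2⟩
  map_one' := Subtype.ext (by
    show θ (dg (1 : M2 F) 1) = 1
    rw [dg_one, map_one])
  map_mul' x y := Subtype.ext (by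
    show θ (dg (x.1.1 * y.1.1) (x.2.1 * y.2.1)) = θ _ * θ _
    rw [← map_mul, dg_mul])

theorem coe_Φ (x : SpecialLinearGroup (Fin 2) F × SpecialLinearGroup (Fin 2) F) :
    ((Φ x : Matrix.symplecticGroup (Fin 2) F) : M4 F) = θ (dg x.1.1 x.2.1) := rfl

theorem Φ_injective : Function.Injective (Φ : _ → Matrix.symplecticGroup (Fin 2) F) := fun x y h => by
  have h1 := θ_injective (congrArg Subtype.val h)
  refine Prod.ext (Subtype.ext ?_) (Subtype.ext ?_)
  · simpa [dg] using congrFun (congrFun h1 0) 0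
  · simpa [dg] using congrFun (congrFun h1 1) 1

/-- The swap, in `Sp_4`. -/
def sig : Matrix.symplecticGroup (Fin 2) F := ⟨θ sg, sg_mem⟩

theorem sig_mul_sig : (sig : Matrix.symplecticGroup (Fin 2) F) * sig = 1 :=
  Subtype.ext (by show θ sg * θ sg = 1; rw [← map_mul, sg_mul_sg, map_one])

theorem sig_mul_Φ (a b : SpecialLinearGroup (Fin 2) F) :
    sig * Φ (a, b) = Φ (b, a) * sig :=
  Subtype.ext (by
    show θ sg * θ (dg a.1 b.1) = θ (dg b.1 a.1) * θ sg
    rw [← map_mul, ← map_mul, sg_mul_dg])

/-- The involution `(1, -1)`. -/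
def dz : Matrix.symplecticGroup (Fin 2) F := Φ (1, -1)

theorem dz_mul_dz : (dz : Matrix.symplecticGroup (Fin 2) F) * dz = 1 := by
  rw [dz, ← map_mul, Prod.mk_mul_mk, one_mul, neg_mul_neg, one_mul, ← map_one Φ]
  rfl

/-- The central involution. -/
def ng : Matrix.symplecticGroup (Fin 2) F := Φ (-1, -1)

theorem coe_ng : ((ng : Matrix.symplecticGroup (Fin 2) F) : M4 F) = -1 := by
  rw [ng, coe_Φ]
  show θ (dg (-(1 : M2 F)) (-1)) = -(1 : M4 F)
  rw [← map_one θ, ← map_neg]
  congr 1
  ext k l : 2
  fin_cases k <;> fin_cases l <;> simp [dg]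

variable (h2 : (2 : F) ≠ 0)
include h2

theorem neg_one_ne : (-1 : SpecialLinearGroup (Fin 2) F) ≠ 1 := fun h => by
  have e := congrFun (congrFun (congrArg Subtype.val h) 0) 0
  simp at e
  exact h2 (by linear_combination -e)

/-- The centralizer of `(1, -1)` is `SL_2 × SL_2`. -/
theorem exists_Φ_of_comm_dz {g : Matrix.symplecticGroup (Fin 2) F} (h : g * dz = dz * g) :
    ∃ a b, g = Φ (a, b) := by
  obtain ⟨X, hX⟩ := θ_surjective (g : M4 F)
  have e : X * dg (1 : M2 F) (-1) = dg 1 (-1) * X := θ_injective (by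
    rw [map_mul, map_mul, hX]
    exact congrArg Subtype.val h)
  have e01 := congrFun (congrFun e 0) 1
  have e10 := congrFun (congrFun e 1) 0
  simp [dg, Matrix.mul_apply, Fin.sum_univ_two] at e01 e10
  have h01 : X 0 1 = 0 := by
    ext i j
    have := congrFun (congrFun e01 i) j
    simp at this
    have h' : (2 : F) * X 0 1 i j = 0 := by linear_combination -this
    simpa [h2] using h'
  have h10 : X 1 0 = 0 := by
    ext i j
    have := congrFun (congrFun e10 i) j
    simp at this
    have h' : (2 : F) * X 1 0 i j = 0 := by linear_combination this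
    simpa [h2] using h'
  have hXd : X = dg (X 0 0) (X 1 1) := by
    ext k l : 2
    fin_cases k <;> fin_cases l <;> simp [dg, h01, h10]
  have hm : X * JB * bt X = JB := mem_sp_iff.mp (hX ▸ g.2)
  have m00 := congrFun (congrFun hm 0) 0
  have m11 := congrFun (congrFun hm 1) 1
  simp [JB, bt, Matrix.mul_apply, Fin.sum_univ_two, h01, h10, mul_j0_transpose] at m00 m11
  exact ⟨⟨X 0 0, j0_smul_inj m00⟩, ⟨X 1 1, j0_smul_inj m11⟩,
    Subtype.ext (by rw [coe_Φ, ← hXd, hX])⟩

/-- `(1, -1)` and the swap are conjugate. -/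
theorem exists_conj_dz_sig :
    ∃ h : Matrix.symplecticGroup (Fin 2) F, h * dz * h⁻¹ = sig := by
  set c : M2 F := !![(2 : F)⁻¹, 0; 0, 1] with hc
  set X : B2 F := !![c, c; c, -c] with hX
  have hcd : c.det = (2 : F)⁻¹ := by simp [hc, Matrix.det_fin_two]
  have key : c * j0 * cᵀ + c * j0 * cᵀ = j0 := by
    rw [mul_j0_transpose, hcd, ← add_smul]
    rw [show (2 : F)⁻¹ + (2 : F)⁻¹ = 1 by field_simp; norm_num, one_smul]
  have hm : θ X ∈ Matrix.symplecticGroup (Fin 2) F := by
    rw [mem_sp_iff]
    ext k l i j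
    have key' := congrFun (congrFun key i) j
    simp [Matrix.mul_apply, Fin.sum_univ_two] at key'
    fin_cases k <;> fin_cases l <;>
      simp [hX, JB, bt, Matrix.mul_apply, Fin.sum_univ_two, key']
  refine ⟨⟨θ X, hm⟩, ?_⟩
  rw [mul_inv_eq_iff_eq_mul]
  refine Subtype.ext ?_
  show θ X * θ (dg (1 : M2 F) (-1)) = θ sg * θ X
  rw [← map_mul, ← map_mul]
  congr 1
  ext k l : 2
  fin_cases k <;> fin_cases l <;> simp [hX, dg, sg, Matrix.mul_apply, Fin.sum_univ_two]

/-- An element of `SL_2` squaring to one is central. -/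
theorem eq_or_eq_neg_of_sq {a : SpecialLinearGroup (Fin 2) F} (ha : a * a = 1) : a = 1 ∨ a = -1 := by
  have e := congrArg Subtype.val ha
  have hd := a.2
  rw [Matrix.det_fin_two] at hd
  have e00 := congrFun (congrFun e 0) 0
  have e01 := congrFun (congrFun e 0) 1
  have e10 := congrFun (congrFun e 1) 0
  have e11 := congrFun (congrFun e 1) 1
  simp [Matrix.mul_apply, Fin.sum_univ_two] at e00 e01 e10 e11
  set x := a.1 0 0
  set y := a.1 0 1
  set z := a.1 1 0
  set w := a.1 1 1
  have hxw : (x + w) * x = 2 := by linear_combination e00 + hd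
  have hne : x + w ≠ 0 := fun h => h2 (by rw [h, zero_mul] at hxw; exact hxw.symm)
  have hy : y = 0 := by
    have : (x + w) * y = 0 := by linear_combination e01
    simpa [hne] using this
  have hz : z = 0 := by
    have : (x + w) * z = 0 := by linear_combination e10
    simpa [hne] using this
  have hxx : (x - 1) * (x + 1) = 0 := by rw [hy] at e00; linear_combination e00
  have hw : w = x := by
    rw [hy, zero_mul, sub_zero] at hd
    rw [hy, zero_mul, add_zero] at e00
    calc w = (x * x) * w := by rw [e00, one_mul]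
      _ = x * (x * w) := by ring
      _ = x := by rw [hd, mul_one]
  rcases mul_eq_zero.mp hxx with h | h
  · left
    have hx1 : x = 1 := by linear_combination h
    refine Subtype.ext ?_
    ext i j
    fin_cases i <;> fin_cases j
    · exact hx1
    · exact hy
    · exact hz
    · exact hw.trans hx1
  · right
    have hx1 : x = -1 := by linear_combination h
    refine Subtype.ext ?_
    ext i j
    fin_cases i <;> fin_cases j
    · simpa using hx1
    · simpa using hy
    · simpa using hz
    · simpa using hw.trans hx1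

/-- The commutant of two anticommuting square roots of `-1` consists of scalars. -/
theorem scalar_of_commute {i j : SpecialLinearGroup (Fin 2) F} (hi : i * i = -1) (hij : i * j = -(j * i))
    {g : SpecialLinearGroup (Fin 2) F} (hgi : g * i = i * g) (hgj : g * j = j * g) :
    g = 1 ∨ g = -1 := by
  have ei : i.1 * i.1 = -1 := congrArg Subtype.val hi
  have eij : i.1 * j.1 = -(j.1 * i.1) := congrArg Subtype.val hij
  have egi : g.1 * i.1 = i.1 * g.1 := congrArg Subtype.val hgi
  have egj : g.1 * j.1 = j.1 * g.1 := congrArg Subtype.val hgj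
  have hid := i.2
  rw [Matrix.det_fin_two] at hid
  have a00 := congrFun (congrFun ei 0) 0
  have a01 := congrFun (congrFun ei 0) 1
  have a10 := congrFun (congrFun ei 1) 0
  simp [Matrix.mul_apply, Fin.sum_univ_two] at a00 a01 a10
  -- the trace of `i` vanishes
  have htr : i.1 0 0 + i.1 1 1 = 0 := by
    by_contra hne
    have h01 : i.1 0 1 = 0 := by
      have : (i.1 0 0 + i.1 1 1) * i.1 0 1 = 0 := by linear_combination a01
      simpa [hne] using this
    have h00 : (i.1 0 0 + i.1 1 1) * i.1 0 0 = 0 := by linear_combination a00 + hid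
    have hx : i.1 0 0 = 0 := by simpa [hne] using h00
    rw [hx, h01] at a00
    simp at a00
  -- `i g + g i` is scalar for the traceless part
  set t : F := (g.1 0 0 + g.1 1 1) / 2 with ht
  set X : M2 F := g.1 - t • 1 with hX
  have hXi : X * i.1 = i.1 * X := by
    rw [hX, sub_mul, mul_sub, egi]
    simp
  have hXj : X * j.1 = j.1 * X := by
    rw [hX, sub_mul, mul_sub, egj]
    simp
  have hXtr : X 0 0 + X 1 1 = 0 := by
    simp [hX, ht]; field_simp; ring
  set s : F := X 0 0 * i.1 0 0 * 2 + X 0 1 * i.1 1 0 + X 1 0 * i.1 0 1 with hs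
  have hXs : X * i.1 + i.1 * X = s • 1 := by
    have hX11 : X 1 1 = -X 0 0 := by linear_combination hXtr
    have hi11 : i.1 1 1 = -i.1 0 0 := by linear_combination htr
    ext k l
    fin_cases k <;> fin_cases l <;>
      simp [Matrix.mul_apply, Fin.sum_univ_two, hs, hX11, hi11] <;> ring
  have hXeq : (2 : F) • X = (-s) • i.1 := by
    have h1 : (X * i.1 + i.1 * X) * i.1 = (s • (1 : M2 F)) * i.1 := by rw [hXs]
    rw [← hXi, add_mul, mul_assoc, ei, smul_mul_assoc, one_mul, mul_neg, mul_one, ← two_smul F (-X),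
      smul_neg] at h1
    rw [neg_smul, ← h1, neg_neg]
  have hs0 : s = 0 := by
    have h1 : ((2 : F) • X) * j.1 = j.1 * ((2 : F) • X) := by
      rw [smul_mul_assoc, mul_smul_comm, hXj]
    rw [hXeq, smul_mul_assoc, mul_smul_comm, eij] at h1
    by_contra hs
    have h3 : -(j.1 * i.1) = j.1 * i.1 := smul_right_injective _ (neg_ne_zero.mpr hs) h1
    have h4 : (2 : F) • (j.1 * i.1) = 0 := by rw [two_smul]; nth_rewrite 1 [← h3]; simp
    have h5 : j.1 * i.1 = 0 := (smul_eq_zero.mp h4).resolve_left h2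
    have h6 := congrArg Matrix.det h5
    rw [Matrix.det_mul, j.2, i.2, Matrix.det_zero] at h6
    exact one_ne_zero (by linear_combination h6)
  have hX0 : X = 0 := by
    rw [hs0, neg_zero, zero_smul] at hXeq
    exact (smul_eq_zero.mp hXeq).resolve_left h2
  have hgt : g.1 = t • 1 := sub_eq_zero.mp hX0
  refine eq_or_eq_neg_of_sq h2 (Subtype.ext ?_)
  show g.1 * g.1 = 1
  have hd := g.2
  rw [hgt, Matrix.det_smul, Matrix.det_one, mul_one, Fintype.card_fin, pow_two] at hd
  rw [hgt, smul_mul_assoc, one_mul, smul_smul, hd, one_smul]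

variable [Fintype F]

/-- The square roots of `-1` in `SL_2` form one class. -/
theorem exists_conj_of_sq_neg_one {a b : SpecialLinearGroup (Fin 2) F} (ha : a * a = -1)
    (hb : b * b = -1) : ∃ c : SpecialLinearGroup (Fin 2) F, c * a * c⁻¹ = b := by
  suffices key : ∀ a : SpecialLinearGroup (Fin 2) F, a * a = -1 →
      ∃ c : SpecialLinearGroup (Fin 2) F, a * c = c * ⟨j0, by simp [j0, Matrix.det_fin_two]⟩ by
    obtain ⟨c, hc⟩ := key a ha
    obtain ⟨c', hc'⟩ := key b hb
    refine ⟨c' * c⁻¹, ?_⟩
    have h1 : c⁻¹ * a * c = ⟨j0, by simp [j0, Matrix.det_fin_two]⟩ := by rw [mul_assoc, hc]; exact inv_mul_cancel_left c _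
    calc c' * c⁻¹ * a * (c' * c⁻¹)⁻¹ = c' * (c⁻¹ * a * c) * c'⁻¹ := by group
      _ = b := by rw [h1, ← hc']; group
  intro a ha
  have ea : a.1 * a.1 = -1 := congrArg Subtype.val ha
  have hd := a.2
  rw [Matrix.det_fin_two] at hd
  have a00 := congrFun (congrFun ea 0) 0
  have a01 := congrFun (congrFun ea 0) 1
  have a10 := congrFun (congrFun ea 1) 0
  simp [Matrix.mul_apply, Fin.sum_univ_two] at a00 a01 a10
  set x := a.1 0 0 with hxdef
  set y := a.1 0 1 with hydef
  set z := a.1 1 0 with hzdef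
  have hw : a.1 1 1 = -x := by
    by_contra hne
    have hne' : x + a.1 1 1 ≠ 0 := fun h => hne (by linear_combination h)
    have h01 : y = 0 := by
      have : (x + a.1 1 1) * y = 0 := by linear_combination a01
      simpa [hne'] using this
    have h00 : x = 0 := by
      have : (x + a.1 1 1) * x = 0 := by linear_combination a00 + hd
      simpa [hne'] using this
    rw [h00, h01] at a00
    simp at a00
  -- a vector `v` with `det [v, a v] = 1`
  obtain ⟨v1, v2, hv⟩ : ∃ v1 v2 : F, z * (v1 * v1) - 2 * x * (v1 * v2) - y * (v2 * v2) = 1 := by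
    rcases eq_or_ne z 0 with hz | hz
    · have hx : x ≠ 0 := fun h => by rw [h, hz] at a00; simp at a00
      refine ⟨(-1 - y) / (2 * x), 1, ?_⟩
      rw [hz]; field_simp; ring
    · have hp : ringChar F ≠ 2 := fun h => h2 (by
        have := ringChar.Nat.cast_ringChar (R := F)
        rw [h] at this
        exact_mod_cast this)
      have h1 : (C z * X ^ 2 + C 0 * X + C 0 : F[X]).degree = 2 := degree_quadratic hz
      have h1' : (C z⁻¹ * X ^ 2 + C 0 * X + C (-1) : F[X]).degree = 2 :=
        degree_quadratic (inv_ne_zero hz)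
      obtain ⟨u, v2, huv⟩ := FiniteField.exists_root_sum_quadratic h1 h1'
        (FiniteField.odd_card_of_char_ne_two hp)
      simp at huv
      refine ⟨u + x / z * v2, v2, ?_⟩
      field_simp at huv ⊢
      linear_combination huv - v2 ^ 2 * a00
  refine ⟨⟨!![v1, x * v1 + y * v2; v2, z * v1 - x * v2], ?_⟩, Subtype.ext ?_⟩
  · simp [Matrix.det_fin_two]
    linear_combination hv
  · show a.1 * !![v1, x * v1 + y * v2; v2, z * v1 - x * v2] =
      !![v1, x * v1 + y * v2; v2, z * v1 - x * v2] * j0
    ext k l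
    fin_cases k <;> fin_cases l
    · simp [j0, Matrix.mul_apply, Fin.sum_univ_two, ← hxdef, ← hydef]
    · simp [j0, Matrix.mul_apply, Fin.sum_univ_two, ← hxdef, ← hydef]
      linear_combination v1 * a00
    · simp [j0, Matrix.mul_apply, Fin.sum_univ_two, ← hzdef, hw]
      ring
    · simp [j0, Matrix.mul_apply, Fin.sum_univ_two, ← hzdef, hw]
      linear_combination v2 * a00

omit h2 in
/-- The centre of `Sp_4`. -/
theorem mem_center_iff (hodd : Fintype.card F % 2 = 1) {g : Matrix.symplecticGroup (Fin 2) F} :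
    g ∈ Subgroup.center (Matrix.symplecticGroup (Fin 2) F) ↔ g = 1 ∨ g = ng := by
  classical
  have hcard := Forms.card_center_symplectic (F := F) rfl (m := 2) (by norm_num)
  have hg : Nat.gcd 2 (Fintype.card F - 1) = 2 := Nat.gcd_eq_left (by omega)
  rw [hg] at hcard
  have hm : (ng : Matrix.symplecticGroup (Fin 2) F) ∈ Subgroup.center _ := Subgroup.mem_center_iff.mpr
    fun x => Subtype.ext (by
      show (x : M4 F) * (ng : Matrix.symplecticGroup (Fin 2) F).1 = (ng : Matrix.symplecticGroup (Fin 2) F).1 * (x : M4 F)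
      rw [coe_ng]; simp)
  constructor
  · intro h
    have hne : (ng : Matrix.symplecticGroup (Fin 2) F) ≠ 1 := by
      rw [ng, ← map_one Φ]
      intro e
      have h2' : (2 : F) ≠ 0 := by
        intro h0
        have := (CharP.cast_eq_zero_iff F (ringChar F) 2).mp (by exact_mod_cast h0)
        have hp : ringChar F = 2 :=
          (Nat.prime_dvd_prime_iff_eq (CharP.char_is_prime F _) Nat.prime_two).mp this
        have := FiniteField.even_card_of_char_two hp
        omega
      exact neg_one_ne h2' (congrArg Prod.fst (Φ_injective e))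
    obtain ⟨a, b, hab, hu⟩ := Nat.card_eq_two_iff.mp hcard
    have hall : ∀ x : Subgroup.center (Matrix.symplecticGroup (Fin 2) F), x = a ∨ x = b := fun x => by
      have : x ∈ (Set.univ : Set _) := trivial
      rw [← hu] at this
      simpa using this
    rcases hall ⟨g, h⟩ with h1 | h1 <;> rcases hall 1 with h3 | h3 <;>
      rcases hall ⟨ng, hm⟩ with h4 | h4
    all_goals first
      | exact absurd (congrArg Subtype.val (h4.trans h3.symm)) hne
      | exact Or.inl (congrArg Subtype.val (h1.trans h3.symm))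
      | exact Or.inr (congrArg Subtype.val (h1.trans h4.symm))
  · rintro (rfl | rfl)
    · exact one_mem _
    · exact hm

end Cfsg.Agent.Fusion.SpFour
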